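import Groth.Agent.CharRing.Compound
import Groth.Agent.Comod.Reductive
import Mathlib.LinearAlgebra.StdBasis
import Mathlib.RingTheory.Bialgebra.Hom

/-!
# Characters of comodules on coordinate spaces
-/

universe u v
open TensorProduct Matrix

noncomputable section

namespace Groth.Agent.CharRing

variable {k : Type u} [Field k] {A : Type v} [CommRing A] [Bialgebra k A]

theorem isCorep_map {B : Type*} [CommRing B] [Bialgebra k B] (f : A →ₐc[k] B) {n : Type*}
    [Fintype n] [DecidableEq n] {M : Matrix n n A} (hM : Comod.IsCorep (k := k) M) :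
    Comod.IsCorep (k := k) (M.map (f : A →ₐ[k] B)) := by
  constructor
  · ext i j
    have h := congrArg (Algebra.TensorProduct.map (f : A →ₐ[k] B) (f : A →ₐ[k] B))
      (congrFun (congrFun hM.map_comul i) j)
    simp only [Matrix.map_apply, Matrix.mul_apply, map_sum, map_mul,
      Bialgebra.comulAlgHom_apply] at h ⊢
    rw [show (f : A →ₐ[k] B) (M i j) = f (M i j) from rfl, ← CoalgHomClass.map_comp_comul_apply f]
    refine Eq.trans ?_ (h.trans (Finset.sum_congr rfl fun m _ => by simp))
    rfl
  · ext i j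
    have h := congrFun (congrFun hM.map_counit i) j
    simp only [Matrix.map_apply, Bialgebra.counitAlgHom_apply] at h ⊢
    rw [show (f : A →ₐ[k] B) (M i j) = f (M i j) from rfl, CoalgHomClass.counit_comp_apply f, h]

theorem chi_coact {d : ℕ} (c : HopfRep.Comod k A (Fin d → k)) (w : Matrix (Fin d) (Fin d) A)
    (hw : ∀ j, @HopfRep.Comod.coact k A _ _ _ _ (Fin d → k) _ _ c (Pi.single j 1) =
      ∑ i, (Pi.single i (1 : k) : Fin d → k) ⊗ₜ[k] w i j) :
    ∑ i : Fin d, TensorProduct.lid k A (LinearMap.rTensor A (LinearMap.proj i)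
        (@HopfRep.Comod.coact k A _ _ _ _ (Fin d → k) _ _ c (Pi.single i 1))) = w.trace := by
  refine Finset.sum_congr rfl fun j _ => ?_
  rw [hw j, map_sum, map_sum, Finset.sum_eq_single j]
  · simp
  · intro i _ hij
    simp [Pi.single_eq_of_ne (Ne.symm hij)]
  · simp

theorem exists_corep_trace_eq (p : Σ d : ℕ, HopfRep.Comod k A (Fin d → k)) :
    ∃ w : Matrix (Fin p.1) (Fin p.1) A, Comod.IsCorep (k := k) w ∧
      ∑ i : Fin p.1, TensorProduct.lid k A (LinearMap.rTensor A (LinearMap.proj i)
        (@HopfRep.Comod.coact k A _ _ _ _ (Fin p.1 → k) _ _ p.2 (Pi.single i 1))) = w.trace := by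
  letI := p.2
  let b := Pi.basisFun k (Fin p.1)
  refine ⟨Comod.coMatrix (A := A) b, Comod.isCorep_coMatrix b, chi_coact p.2 _ fun j => ?_⟩
  have h := Comod.coact_basis (A := A) b j
  simp only [b, Pi.basisFun_apply] at h
  exact h

theorem isCorep_reindex {n m : Type*} [Fintype n] [DecidableEq n] [Fintype m] [DecidableEq m]
    {M : Matrix n n A} (hM : Comod.IsCorep (k := k) M) (e : n ≃ m) :
    Comod.IsCorep (k := k) (M.submatrix e.symm e.symm) := by
  constructor
  · rw [← Matrix.submatrix_map, hM.map_comul, ← Matrix.submatrix_mul_equiv _ _ _ e.symm _]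
    rfl
  · rw [← Matrix.submatrix_map, hM.map_counit, Matrix.submatrix_one_equiv]

theorem exists_chi_eq_trace {A : Type v} [CommRing A] [HopfAlgebra k A] {n : Type*} [Fintype n]
    [DecidableEq n] {M : Matrix n n A}
    (hM : Comod.IsCorep (k := k) M) :
    ∃ p : Σ d : ℕ, HopfRep.Comod k A (Fin d → k),
      ∑ i : Fin p.1, TensorProduct.lid k A (LinearMap.rTensor A (LinearMap.proj i)
        (@HopfRep.Comod.coact k A _ _ _ _ (Fin p.1 → k) _ _ p.2 (Pi.single i 1))) = M.trace := by
  let e := Fintype.equivFin n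
  refine ⟨⟨Fintype.card n, Comod.ofCorep (Pi.basisFun k (Fin (Fintype.card n))) (isCorep_reindex hM e)⟩, ?_⟩
  rw [chi_coact _ (M.submatrix e.symm e.symm) fun j => ?_]
  · exact (Equiv.sum_comp e.symm fun i => M i i)
  · show (Pi.basisFun k _).constr k _ (Pi.single j 1) = _
    rw [← Pi.basisFun_apply k (Fin (Fintype.card n)) j, Module.Basis.constr_basis]
    simp only [Pi.basisFun_apply]

theorem trace_const [CharZero k] {R : Type*} [CommRing R] [Algebra k R] {n : Type} [Fintype n]
    [DecidableEq n] (l : ℕ) :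
    ∃ c : k, Matrix.trace (1 - cmp k l (1 : Matrix n n R)) = algebraMap k R c := by
  refine ⟨Matrix.trace (1 - cmp k l (1 : Matrix n n k)), ?_⟩
  have h : (1 - cmp k l (1 : Matrix n n R)) = (Algebra.ofId k R).mapMatrix (1 - cmp k l (1 : Matrix n n k)) := by
    rw [map_sub, map_one, AlgHom.mapMatrix_apply, cmp_map,
      Matrix.map_one (Algebra.ofId k R) (map_zero _) (map_one _)]
  rw [h]
  simp [Matrix.trace, map_sum, Algebra.ofId_apply]

end Groth.Agent.CharRing
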