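import Groth.Agent.Comod.Corep
import Groth.Agent.CompGroup.CauchyBinet
import Mathlib.LinearAlgebra.Matrix.Charpoly.Coeff
import Mathlib.Algebra.CharZero.Defs
import Mathlib.RingTheory.Bialgebra.Basic

/-!
# Compound matrices in characteristic zero

`cN l M` is a multiplicative, natural, unital matrix functor whose trace is, up to a constant, the sum of
the principal `l`-minors.
-/

universe u v
open TensorProduct Matrix

noncomputable section

namespace Groth.Agent.CharRing

variable {k : Type u} [Field k] [CharZero k] {n : Type} [Fintype n] [DecidableEq n]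
variable {R : Type v} [CommRing R] [Algebra k R]

variable (k) in
/-- Antisymmetrised minors. -/
def cmp (l : ℕ) (M : Matrix n n R) : Matrix (Fin l → n) (Fin l → n) R :=
  .of fun p q => algebraMap k R ((l.factorial : k)⁻¹) * (M.submatrix p q).det

theorem cmp_mul (l : ℕ) (X Y : Matrix n n R) : cmp k l X * cmp k l Y = cmp k l (X * Y) := by
  ext p q
  have h := CompGroup.factorial_mul_det_mul (X.submatrix p id) (Y.submatrix id q)
  rw [Fintype.card_fin] at h
  have hc : algebraMap k R ((l.factorial : k)⁻¹) * (l.factorial : R) = 1 := by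
    rw [← map_natCast (algebraMap k R) l.factorial, ← map_mul, inv_mul_cancel₀
      (Nat.cast_ne_zero.2 l.factorial_ne_zero), map_one]
  have hxy : (X.submatrix p id * Y.submatrix id q) = (X * Y).submatrix p q := by
    ext i j; simp [Matrix.mul_apply]
  rw [hxy] at h
  simp only [Matrix.submatrix_submatrix, Function.id_comp, Function.comp_id] at h
  simp only [Matrix.mul_apply, cmp, Matrix.of_apply]
  calc _ = algebraMap k R ((l.factorial : k)⁻¹) * algebraMap k R ((l.factorial : k)⁻¹) *
        ∑ r : Fin l → n, (X.submatrix p r).det * (Y.submatrix r q).det := by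
        rw [Finset.mul_sum]; exact Finset.sum_congr rfl fun r _ => by ring
    _ = _ := by rw [← h, mul_assoc, ← mul_assoc (algebraMap k R _) (l.factorial : R), hc, one_mul]

theorem cmp_map {S : Type*} [CommRing S] [Algebra k S] (f : R →ₐ[k] S) (l : ℕ) (M : Matrix n n R) :
    (cmp k l M).map f = cmp k l (M.map f) := by
  ext p q
  simp only [cmp, Matrix.map_apply, Matrix.of_apply, map_mul, AlgHom.commutes, AlgHom.map_det,
    AlgHom.mapMatrix_apply, Matrix.submatrix_map]

variable (k) in
/-- The unital version. -/
def cN (l : ℕ) (M : Matrix n n R) : Matrix (Fin l → n) (Fin l → n) R :=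
  cmp k l M + (1 - cmp k l 1)

theorem cN_one (l : ℕ) : cN k l (1 : Matrix n n R) = 1 := by
  simp [cN]

theorem cN_mul (l : ℕ) (X Y : Matrix n n R) : cN k l X * cN k l Y = cN k l (X * Y) := by
  simp only [cN, add_mul, mul_add, sub_mul, mul_sub, one_mul, mul_one, cmp_mul]
  abel

theorem cN_map {S : Type*} [CommRing S] [Algebra k S] (f : R →ₐ[k] S) (l : ℕ) (M : Matrix n n R) :
    (cN k l M).map f = cN k l (M.map f) := by
  show f.mapMatrix (cN k l M) = _
  simp only [cN, map_add, map_sub, map_one, AlgHom.mapMatrix_apply, cmp_map,
    Matrix.map_one f (map_zero f) (map_one f)]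

theorem isCorep_cN {A : Type v} [CommRing A] [Bialgebra k A] {M : Matrix n n A}
    (hM : Comod.IsCorep (k := k) M) (l : ℕ) : Comod.IsCorep (k := k) (cN k l M) := by
  constructor
  · simp only [cN_map, hM.map_comul, cN_mul]
  · simp only [cN_map, hM.map_counit, cN_one]

theorem trace_cmp (l : ℕ) (M : Matrix n n R) :
    (cmp k l M).trace = ∑ s ∈ Finset.univ.powersetCard l,
      (M.submatrix (Subtype.val : s → n) (Subtype.val : s → n)).det := by
  classical
  have hc : (l.factorial : R) * algebraMap k R ((l.factorial : k)⁻¹) = 1 := by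
    rw [← map_natCast (algebraMap k R) l.factorial, ← map_mul, mul_inv_cancel₀
      (Nat.cast_ne_zero.2 l.factorial_ne_zero), map_one]
  simp only [Matrix.trace, Matrix.diag_apply, cmp, Matrix.of_apply]
  rw [← Finset.sum_filter_of_ne (p := fun p : Fin l → n => Function.Injective p) fun p _ hp => by
    by_contra hinj
    rw [Function.not_injective_iff] at hinj
    obtain ⟨i, j, hij, hne⟩ := hinj
    exact hp (by rw [Matrix.det_zero_of_row_eq hne (funext fun t => by simp [hij]), mul_zero])]
  rw [← Finset.sum_fiberwise_of_maps_to (g := fun p : Fin l → n => Finset.univ.image p)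
    (t := Finset.univ.powersetCard l)]
  · refine Finset.sum_congr rfl fun s hs => ?_
    have hs' : s.card = Fintype.card (Fin l) := by
      rw [Fintype.card_fin]; exact (Finset.mem_powersetCard.1 hs).2
    rw [Finset.filter_filter]
    rw [Finset.sum_congr rfl (g := fun _ => algebraMap k R ((l.factorial : k)⁻¹) *
      (M.submatrix (Subtype.val : s → n) (Subtype.val : s → n)).det) fun p hp => ?_]
    · rw [Finset.sum_const, CompGroup.card_injective_of_range s hs', Fintype.card_fin, nsmul_eq_mul,
        ← mul_assoc, hc, one_mul]
    · obtain ⟨-, hinj, him⟩ := Finset.mem_filter.1 hp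
      let e : Fin l ≃ s := Equiv.ofBijective (fun i => ⟨p i, him ▸ Finset.mem_image_of_mem p (Finset.mem_univ i)⟩)
        ((Fintype.bijective_iff_injective_and_card _).mpr
          ⟨fun i j h => hinj (congrArg Subtype.val h), by simp [hs']⟩)
      congr 1
      rw [← Matrix.det_submatrix_equiv_self e (M.submatrix (Subtype.val : s → n) Subtype.val)]
      rfl
  · intro p hp
    refine Finset.mem_powersetCard.2 ⟨Finset.subset_univ _, ?_⟩
    rw [Finset.card_image_of_injective _ (Finset.mem_filter.1 hp).2, Finset.card_univ, Fintype.card_fin]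

/-- Coefficients of the characteristic polynomial through traces of the compound matrices. -/
theorem charpoly_coeff (M : Matrix n n R) (l : ℕ) (hl : l ≤ Fintype.card n) :
    M.charpoly.coeff (Fintype.card n - l) =
      (-1) ^ l * ((cN k l M).trace - (Matrix.trace (1 - cmp k l (1 : Matrix n n R)))) := by
  rw [Matrix.charpoly_coeff_eq_sum_minors M l hl, ← trace_cmp (k := k), cN, Matrix.trace_add,
    add_sub_cancel_right]

end Groth.Agent.CharRing
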