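import Groth.Agent.Comod.Corep
import Mathlib.RingTheory.Bialgebra.Convolution
import Mathlib.LinearAlgebra.Matrix.Charpoly.Coeff
import Mathlib.LinearAlgebra.Charpoly.Basic
import Mathlib.RingTheory.Finiteness.Subalgebra

/-!
# Power maps and linear recurrences

For a commutative bialgebra the power maps send an entry of a matrix corepresentation to the entry of the
matrix power; elements whose sequence of powers satisfies a linear recurrence form a subalgebra.
-/

universe u v
open TensorProduct Matrix WithConv Polynomial

noncomputable section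

namespace Groth.Agent.CharRing

variable (k : Type u) [CommRing k] {B : Type v} [CommRing B] [Bialgebra k B]

/-- The power map of the monoid scheme, on functions. -/
def psi (l : ℕ) : B →ₐ[k] B := (toConv (AlgHom.id k B) ^ l).ofConv

/-- The sequence of powers of a function. -/
def seq : B →ₐ[k] (ℕ → B) := AlgHom.pi (psi k)

variable {k}

theorem seq_apply (x : B) (l : ℕ) : seq k x l = psi k l x := rfl

theorem psi_corep {n : Type*} [Fintype n] [DecidableEq n] {M : Matrix n n B}
    (hM : Comod.IsCorep (k := k) M) (l : ℕ) (i j : n) : psi k l (M i j) = (M ^ l) i j := by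
  induction l generalizing i j with
  | zero =>
    rw [psi, pow_zero, pow_zero]
    have h := congrFun (congrFun hM.map_counit i) j
    simp only [Matrix.map_apply, Bialgebra.counitAlgHom_apply] at h
    show (1 : WithConv (B →ₐ[k] B)) (M i j) = _
    rw [AlgHom.convOne_apply, h, Matrix.one_apply, Matrix.one_apply, apply_ite (algebraMap k B),
      map_one, map_zero]
  | succ l ih =>
    have h := congrFun (congrFun hM.map_comul i) j
    simp only [Matrix.map_apply, Bialgebra.comulAlgHom_apply, Matrix.mul_apply,
      Algebra.TensorProduct.includeLeft_apply, Algebra.TensorProduct.includeRight_apply,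
      Algebra.TensorProduct.tmul_mul_tmul, mul_one, one_mul] at h
    rw [psi, pow_succ]
    show ((toConv (AlgHom.id k B) ^ l) * toConv (AlgHom.id k B) : WithConv (B →ₐ[k] B)) (M i j) = _
    rw [AlgHom.convMul_apply, h, map_sum, pow_succ, Matrix.mul_apply]
    refine Finset.sum_congr rfl fun m _ => ?_
    rw [Algebra.TensorProduct.lift_tmul, ← ih i m]
    rfl

variable (C0 : Subalgebra k B)

/-- The shift of sequences. -/
def shift : (ℕ → B) →ₗ[C0] (ℕ → B) where
  toFun f m := f (m + 1)
  map_add' _ _ := rfl
  map_smul' _ _ := rfl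

/-- The sequence of powers lies in a finitely generated shift stable module. -/
def Recurrent (x : B) : Prop :=
  ∃ N : Submodule C0 (ℕ → B), N.FG ∧ (∀ f ∈ N, shift C0 f ∈ N) ∧ seq k x ∈ N

/-- The recurrent elements form a subalgebra. -/
def recurrentSubalgebra : Subalgebra k B where
  carrier := {x | Recurrent C0 x}
  mul_mem' := by
    rintro x y ⟨N, hN, hNT, hx⟩ ⟨N', hN', hNT', hy⟩
    refine ⟨N * N', hN.mul hN', fun f hf => ?_, by rw [map_mul]; exact Submodule.mul_mem_mul hx hy⟩
    induction hf using Submodule.mul_induction_on' with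
    | mem_mul_mem a ha b hb => exact Submodule.mul_mem_mul (hNT a ha) (hNT' b hb)
    | add a _ b _ iha ihb => rw [map_add]; exact add_mem iha ihb
  add_mem' := by
    rintro x y ⟨N, hN, hNT, hx⟩ ⟨N', hN', hNT', hy⟩
    refine ⟨N ⊔ N', hN.sup hN', fun f hf => ?_,
      by rw [map_add]; exact Submodule.add_mem_sup hx hy⟩
    obtain ⟨a, ha, b, hb, rfl⟩ := Submodule.mem_sup.1 hf
    rw [map_add]
    exact Submodule.add_mem_sup (hNT a ha) (hNT' b hb)
  algebraMap_mem' r := by
    refine ⟨Submodule.span C0 {(1 : ℕ → B)}, Submodule.fg_span_singleton _, fun f hf => ?_, ?_⟩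
    · obtain ⟨a, rfl⟩ := Submodule.mem_span_singleton.1 hf
      rw [map_smul]
      exact Submodule.smul_mem _ a (Submodule.mem_span_singleton_self _)
    · refine Submodule.mem_span_singleton.2 ⟨⟨algebraMap k B r, C0.algebraMap_mem r⟩, ?_⟩
      funext m
      rw [seq_apply, AlgHom.commutes]
      exact mul_one _

/-- Entries of a corepresentation with characteristic polynomial over `C0` are recurrent. -/
theorem recurrent_entry {n : Type*} [Fintype n] [DecidableEq n] {M : Matrix n n B}
    (hM : Comod.IsCorep (k := k) M) (hc : ∀ l, M.charpoly.coeff l ∈ C0) (i j : n) :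
    Recurrent C0 (M i j) := by
  classical
  let g : ℕ → (ℕ → B) := fun l m => (M ^ (m + l)) i j
  let N : Submodule C0 (ℕ → B) := Submodule.span C0 (g '' {l | l < Fintype.card n})
  have hgN : ∀ l, l < Fintype.card n → g l ∈ N := fun l hl => Submodule.subset_span ⟨l, hl, rfl⟩
  have hgn : g (Fintype.card n) ∈ N := by
    have hCH : aeval M M.charpoly = 0 := Matrix.aeval_self_charpoly M
    nontriviality B
    rw [aeval_eq_sum_range, Matrix.charpoly_natDegree_eq_dim, Finset.sum_range_succ,
      show M.charpoly.coeff (Fintype.card n) = 1 by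
        rw [← Matrix.charpoly_natDegree_eq_dim M]; exact (Matrix.charpoly_monic M).coeff_natDegree,
      one_smul, add_eq_zero_iff_eq_neg'] at hCH
    have : g (Fintype.card n) =
        -∑ l ∈ Finset.range (Fintype.card n), (⟨_, hc l⟩ : C0) • g l := by
      funext m
      simp only [g, pow_add, hCH, mul_neg, Finset.mul_sum, mul_smul_comm, Matrix.neg_apply,
        Matrix.sum_apply, Matrix.smul_apply, Pi.neg_apply, Finset.sum_apply, Pi.smul_apply]
      rfl
    rw [this]
    exact neg_mem (sum_mem fun l hl => N.smul_mem _ (hgN l (Finset.mem_range.1 hl)))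
  refine ⟨N, Submodule.fg_span ((Set.finite_lt_nat _).image g), fun f hf => ?_, ?_⟩
  · have : N ≤ N.comap (shift C0) := by
      refine Submodule.span_le.2 ?_
      rintro _ ⟨l, hl, rfl⟩
      have e : shift C0 (g l) = g (l + 1) := by
        funext m
        show (M ^ (m + 1 + l)) i j = (M ^ (m + (l + 1))) i j
        rw [Nat.add_right_comm, Nat.add_assoc]
      show shift C0 (g l) ∈ N
      rw [e]
      rcases lt_or_eq_of_le (Nat.succ_le_of_lt hl) with h | h
      · exact hgN _ h
      · rw [show l + 1 = Fintype.card n from h]; exact hgn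
    exact this hf
  · have e : seq k (M i j) = g 0 := funext fun m => by
      rw [seq_apply, psi_corep hM]; rfl
    rw [e]
    exact hgN 0 (Fintype.card_pos_iff.2 ⟨i⟩)

/-- A recurrent element has an annihilating monic polynomial. -/
theorem exists_annihilator {x : B} (hx : Recurrent C0 x) :
    ∃ P : C0[X], P.Monic ∧ aeval (shift C0) P (seq k x) = 0 := by
  obtain ⟨N, hN, hNT, hxN⟩ := hx
  haveI : Module.Finite C0 N := Module.Finite.iff_fg.2 hN
  let T' : N →ₗ[C0] N := (shift C0).restrict hNT
  obtain ⟨P, hP, hP0⟩ := LinearMap.exists_monic_and_aeval_eq_zero C0 T'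
  refine ⟨P, hP, ?_⟩
  have key : ∀ (Q : C0[X]) (v : N), aeval (shift C0) Q (v : ℕ → B) = (aeval T' Q v : N) := by
    intro Q
    induction Q using Polynomial.induction_on' with
    | add p q hp hq => intro v; simp [hp, hq]
    | monomial l a =>
      intro v
      induction l generalizing v with
      | zero => simp [aeval_monomial]
      | succ l ih =>
        rw [← Polynomial.monomial_mul_X]
        simp only [map_mul, aeval_X, Module.End.mul_apply]
        rw [← ih]
        rfl
  rw [key P ⟨_, hxN⟩, hP0]
  rfl

/-- If all elements are recurrent, a corepresentation is annihilated by a monic polynomial over `C0`. -/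
theorem exists_aeval_eq_zero (hall : ∀ x : B, Recurrent C0 x) {n : Type*} [Fintype n] [DecidableEq n]
    {M : Matrix n n B} (hM : Comod.IsCorep (k := k) M) :
    ∃ P : C0[X], P.Monic ∧ aeval M P = 0 := by
  classical
  choose P hP hP0 using fun p : n × n => exists_annihilator C0 (hall (M p.1 p.2))
  refine ⟨∏ p, P p, monic_prod_of_monic _ _ fun p _ => hP p, ?_⟩
  ext i j
  have h1 : aeval (shift C0) (∏ p, P p) (seq k (M i j)) = 0 := by
    rw [← Finset.prod_erase_mul _ _ (Finset.mem_univ (i, j)), map_mul, Module.End.mul_apply, hP0 (i, j),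
      map_zero]
  have hpow : ∀ (l : ℕ) (f : ℕ → B) (m : ℕ), ((shift C0) ^ l) f m = f (m + l) := by
    intro l
    induction l with
    | zero => intro f m; rfl
    | succ l ih =>
      intro f m
      rw [pow_succ, Module.End.mul_apply, ih]
      rfl
  have h2 := congrFun h1 0
  rw [aeval_eq_sum_range] at h2 ⊢
  simp only [LinearMap.sum_apply, LinearMap.smul_apply, Finset.sum_apply, Pi.smul_apply, hpow,
    zero_add, seq_apply, psi_corep hM, Pi.zero_apply] at h2
  simpa [Matrix.sum_apply] using h2

end Groth.Agent.CharRing
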