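import Mathlib.LinearAlgebra.Matrix.Charpoly.Eigs
import Mathlib.FieldTheory.IsAlgClosed.AlgebraicClosure
import Mathlib.FieldTheory.IsAlgClosed.Spectrum
import Mathlib.RingTheory.Localization.FractionRing
import Mathlib.RingTheory.Nilpotent.Lemmas
import Mathlib.RingTheory.Ideal.MinimalPrime.Noetherian

/-!
# Traces of matrices annihilated by monic polynomials are integral
-/

universe u v
open Polynomial

namespace Groth.Agent.CharRing

theorem isIntegral_trace {R : Type u} {B : Type v} [CommRing R] [CommRing B] [Algebra R B]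
    [IsReduced B] [IsNoetherianRing B] {n : Type*} [Fintype n] [DecidableEq n] (w : Matrix n n B)
    (P : R[X]) (hP : P.Monic) (hw : aeval w P = 0) : IsIntegral R w.trace := by
  classical
  have hfin := minimalPrimes.finite_of_isNoetherianRing B
  have key : ∀ q ∈ minimalPrimes B, ∃ Q : R[X], Q.Monic ∧ aeval w.trace Q ∈ q := by
    intro q hq
    haveI : q.IsPrime := hq.1.1
    let K := AlgebraicClosure (FractionRing (B ⧸ q))
    let f : B →+* K := ((algebraMap (FractionRing (B ⧸ q)) K).comp
      (algebraMap (B ⧸ q) (FractionRing (B ⧸ q)))).comp (Ideal.Quotient.mk q)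
    letI : Algebra R K := (f.comp (algebraMap R B)).toAlgebra
    let fA : B →ₐ[R] K := { f with commutes' := fun _ => rfl }
    have hker : ∀ x, f x = 0 → x ∈ q := fun x hx =>
      Ideal.Quotient.eq_zero_iff_mem.1 (IsFractionRing.injective (B ⧸ q) (FractionRing (B ⧸ q))
        (((algebraMap (FractionRing (B ⧸ q)) K).injective (hx.trans (map_zero _).symm)).trans
          (map_zero _).symm))
    let w' : Matrix n n K := fA.mapMatrix w
    have hw' : aeval w' (P.map (algebraMap R K)) = 0 := by
      rw [aeval_map_algebraMap, aeval_algHom_apply, hw, map_zero]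
    have hroot : ∀ μ ∈ w'.charpoly.roots, IsIntegral R μ := by
      intro μ hμ
      have h1 : μ ∈ spectrum K w' := Matrix.mem_spectrum_iff_isRoot_charpoly.2
        (mem_roots (Matrix.charpoly_monic w').ne_zero |>.1 hμ)
      haveI : Nonempty n := by
        by_contra hn
        rw [not_nonempty_iff] at hn
        have : w'.charpoly = 1 := by rw [Matrix.charpoly, Matrix.det_isEmpty]
        rw [this, roots_one] at hμ
        exact (Multiset.notMem_zero _ hμ).elim
      have h2 := spectrum.subset_polynomial_aeval w' (P.map (algebraMap R K)) ⟨μ, h1, rfl⟩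
      rw [hw', spectrum.zero_eq, Set.mem_singleton_iff] at h2
      exact ⟨P, hP, by simpa [eval_map] using h2⟩
    have ht : fA w.trace = w'.trace := by
      simp [w', Matrix.trace, map_sum]
    have hint : IsIntegral R (fA w.trace) := by
      rw [ht, Matrix.trace_eq_sum_roots_charpoly]
      exact IsIntegral.multiset_sum hroot
    obtain ⟨Q, hQ, hQ0⟩ := hint
    refine ⟨Q, hQ, hker _ ?_⟩
    show fA (aeval w.trace Q) = 0
    rw [← aeval_algHom_apply]
    exact hQ0
  choose Q hQ hQ0 using key
  refine ⟨∏ q : hfin.toFinset, Q q.1 (hfin.mem_toFinset.1 q.2),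
    monic_prod_of_monic _ _ fun q _ => hQ _ _, ?_⟩
  have hmem : aeval w.trace (∏ q : hfin.toFinset, Q q.1 (hfin.mem_toFinset.1 q.2)) ∈ nilradical B := by
    rw [nilradical, ← Ideal.sInf_minimalPrimes, Ideal.mem_sInf]
    intro q hq
    rw [map_prod, ← Finset.prod_erase_mul _ _ (Finset.mem_univ (⟨q, hfin.mem_toFinset.2 hq⟩ : hfin.toFinset))]
    exact q.mul_mem_left _ (hQ0 q hq)
  rw [nilradical_eq_zero B] at hmem
  exact hmem

end Groth.Agent.CharRing
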